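import Cfsg.Agent.H317.RO.Co3Data
import Cfsg.Agent.H729.PairCo3N
import Cfsg.Agent.H805.CThree12
import Cfsg.Agent.H101.RealOdd

/-!
# `Co3` has a real element of order 9 with centraliser of odd order (helper317)

Statement S2248, row `Co3` (task 1615).
-/

set_option autoImplicit false

namespace Cfsg.Agent.H317.RO.Co3

open Subgroup Cfsg Cfsg.Agent.Lib.PackMat Cfsg.Agent.SporRec.LeechMod3 Cfsg.Agent.SporRec.LeechChain
  Cfsg.Agent.SporRec.Co3.MatData Cfsg.Agent.SporRec.Co3.ChainData Cfsg.Agent.SporRec.Co3.Chain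
  Cfsg.Agent.SporRec.Co3.Ident Cfsg.Agent.H317.RO.Co3Data
open Cfsg.Agent.SporRec.TwoSp6.Order (card_M)
open Cfsg.Agent.SigZero

universe u

instance finG3 : Finite G3 := H729.PairCo3N.finite_G3

/-- the value of a word -/
@[irreducible] noncomputable def V (l : List ℕ) : G3 := mw A Z W0 l

theorem V_def (l : List ℕ) : V l = mw A Z W0 l := by unfold V; rfl

theorem V_append (u v : List ℕ) : V (u ++ v) = V u * V v := by
  rw [V_def, V_def, V_def]
  exact mw_append A Z W0 u v

theorem V_nil : V [] = 1 := by rw [V_def]; rfl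

theorem V_eq {u v : List ℕ} (h : chk u v = true) : V u = V v := by
  rw [V_def, V_def]
  exact mw_eq h

theorem act_word {l : List ℕ} (h : wok gs0 (l.flatMap exl) = true) {R : ℕ} (hR : OkR cfg R) :
    OkR cfg (run cfg (wm l) R) ∧ act (rv R) ((V l : G3) : Co0) = rv (run cfg (wm l) R) := by
  obtain ⟨h1, h2⟩ := word_rho (gs := gs0) (g := el) (fun k hk => (el_spec k hk).2) h
  obtain ⟨h3, h4⟩ := run_rv h1 hR
  refine ⟨h3, ?_⟩
  unfold act
  rw [V_def, coe_mw, h2]
  exact h4.symm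

theorem row_ok {i : ℕ} (hi : i < 552) : OkR cfg (row i) := by
  have h := allBelow_spec okRows_eq i hi
  exact okR_of h

theorem gen_spec {i : ℕ} (hi : i < 552) {k : ℕ} (hk : k < 8) :
    nxt i k < 552 ∧ act (rv (row i)) (el k) = rv (row (nxt i k)) := by
  have h := allBelow_spec (allBelow_spec closedRows_eq i hi) k hk
  rw [Bool.and_eq_true, Nat.blt_eq] at h
  refine ⟨h.1, ?_⟩
  have h1 := Nat.eq_of_beq_eq_true h.2
  have hs := el_spec k hk
  obtain ⟨-, h3⟩ := run_rv (w := [gs0.getD k 0]) (by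
    intro g hg
    rw [List.mem_singleton] at hg
    rw [hg]
    exact hs.2.1) (row_ok hi)
  rw [h1, List.map_cons, List.map_nil, List.prod_cons, List.prod_nil, mul_one, ← hs.2.2] at h3
  exact h3.symm

/-- the orbit -/
def InO (v : Fin 24 → ZMod 3) : Prop := ∃ i < 552, v = rv (row i)

theorem InO.el {v : Fin 24 → ZMod 3} (h : InO v) {k : ℕ} (hk : k < 8) : InO (act v (el k)) := by
  obtain ⟨i, hi, rfl⟩ := h
  obtain ⟨h1, h2⟩ := gen_spec hi hk
  exact ⟨_, h1, h2⟩

theorem InO.act (g : G3) {v : Fin 24 → ZMod 3} (h : InO v) : InO (act v (g : Co0)) := by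
  have key : ∀ g ∈ Subgroup.closure (Set.range A ∪ {W0}), ∀ v, InO v →
      InO (Cfsg.Agent.SporRec.LeechMod3.act v ((g : G3) : Co0)) := by
    intro g hg
    induction hg using Subgroup.closure_induction with
    | mem x hx =>
      intro v hv
      rcases hx with ⟨i, rfl⟩ | hx
      · exact hv.el (k := i) (by omega)
      · rw [Set.mem_singleton_iff] at hx
        subst hx
        exact hv.el (k := 7) (by norm_num)
    | one =>
      intro v hv
      rw [Subgroup.coe_one, act_one]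
      exact hv
    | mul x y _ _ hx hy =>
      intro v hv
      rw [Subgroup.coe_mul, act_mul]
      exact hy _ (hx _ hv)
    | inv x _ hx =>
      intro v hv
      have h1 : ∀ n : ℕ, ∀ v, InO v → InO (Cfsg.Agent.SporRec.LeechMod3.act v ((x ^ n : G3) : Co0)) := by
        intro n
        induction n with
        | zero =>
          intro v hv
          rw [pow_zero, Subgroup.coe_one, act_one]
          exact hv
        | succ n ih =>
          intro v hv
          rw [pow_succ, Subgroup.coe_mul, act_mul]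
          exact hx _ (ih _ hv)
      have h2 : x⁻¹ = x ^ (orderOf x - 1) := by
        rw [inv_eq_iff_mul_eq_one, ← pow_succ', Nat.sub_add_cancel (orderOf_pos x), pow_orderOf_eq_one]
      rw [h2]
      exact h1 _ v hv
  exact key g (by rw [closure_top]; exact mem_top _) v h

/-! ### the Sylow 3-subgroup of `C(Z)` -/

theorem cube_of {l : List ℕ} (h : chk (l ++ l ++ l) [] = true) : V l ^ 3 = 1 := by
  have h1 := V_eq h
  rw [V_append, V_append, V_nil] at h1
  rw [pow_succ, pow_two]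
  exact h1

theorem comm_of {l m : List ℕ} (h : chk (l ++ m) (m ++ l) = true) : V l * V m = V m * V l := by
  have h1 := V_eq h
  rwa [V_append, V_append] at h1

theorem V_wpw (l : List ℕ) (n : ℕ) : V (wpw l n) = V l ^ n := by
  induction n with
  | zero => rw [wpw, pow_zero, V_nil]
  | succ n ih => rw [wpw, V_append, ih, pow_succ']

theorem V_Z : V [7] = Z := by
  rw [V_def]
  exact mw_z A Z W0

theorem mem_C {l : List ℕ} (h : chk ([7] ++ l) (l ++ [7]) = true) : V l ∈ centralizer ({Z} : Set G3) := by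
  rw [mem_centralizer_singleton_iff, ← V_Z]
  exact (comm_of h).symm

theorem isP_zpowers {G : Type*} [Group G] {x : G} (h : x ^ 3 = 1) : IsPGroup 3 (zpowers x) :=
  CpAutCo3.MTw.isP_zpowers h

/-- a subgroup normalised by an element of order 3 -/
theorem mem_normalizer_three {G : Type*} [Group G] {H : Subgroup G} {x : G} (h3 : x ^ 3 = 1)
    (h : ∀ y ∈ H, x * y * x⁻¹ ∈ H) : x ∈ normalizer (H : Set G) := by
  rw [mem_normalizer_iff]
  intro y
  refine ⟨h y, fun hy => ?_⟩
  have h1 := h _ (h _ hy)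
  have h2 : x * (x * (x * y * x⁻¹) * x⁻¹) * x⁻¹ = x ^ 3 * y * (x ^ 3)⁻¹ := by
    rw [pow_succ, pow_two]; group
  rw [h2, h3, one_mul, inv_one, mul_one] at h1
  exact h1

theorem isP_sup {G : Type*} [Group G] {H : Subgroup G} {x : G} (h3 : x ^ 3 = 1) (hH : IsPGroup 3 H)
    (h : ∀ y ∈ H, x * y * x⁻¹ ∈ H) : IsPGroup 3 (zpowers x ⊔ H : Subgroup G) := by
  apply IsPGroup.to_sup_of_normal_right' (isP_zpowers h3) hH
  rw [zpowers_le]
  exact mem_normalizer_three h3 h

theorem conj_le {G : Type*} [Group G] {H K : Subgroup G} {x : G} (h : H ≤ K.comap (MulAut.conj x).toMonoidHom) :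
    ∀ y ∈ H, x * y * x⁻¹ ∈ K := fun _ hy => h hy

noncomputable def E12 : Subgroup G3 := zpowers (V we1) ⊔ zpowers (V we2)
noncomputable def E : Subgroup G3 := zpowers (V we3) ⊔ E12
noncomputable def P : Subgroup G3 := zpowers (V wtau) ⊔ E

theorem c1 : V we1 ∈ E12 := (le_sup_left : zpowers (V we1) ≤ E12) (mem_zpowers _)
theorem c2 : V we2 ∈ E12 := (le_sup_right : zpowers (V we2) ≤ E12) (mem_zpowers _)
theorem m1 : V we1 ∈ E := (le_sup_right : E12 ≤ E) c1
theorem m2 : V we2 ∈ E := (le_sup_right : E12 ≤ E) c2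
theorem m3 : V we3 ∈ E := (le_sup_left : zpowers (V we3) ≤ E) (mem_zpowers _)
theorem p1 : V we1 ∈ P := (le_sup_right : E ≤ P) m1
theorem p2 : V we2 ∈ P := (le_sup_right : E ≤ P) m2
theorem p3 : V we3 ∈ P := (le_sup_right : E ≤ P) m3
theorem p4 : V wtau ∈ P := (le_sup_left : zpowers (V wtau) ≤ P) (mem_zpowers _)

theorem conj_eq_of_comm {G : Type*} [Group G] {x y : G} (h : x * y = y * x) : x * y * x⁻¹ = y := by
  rw [h, mul_inv_cancel_right]

theorem isP_E12 : IsPGroup 3 E12 := by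
  refine isP_sup (cube_of k_e1) (isP_zpowers (cube_of k_e2)) (conj_le ?_)
  rw [zpowers_le]
  show V we1 * V we2 * (V we1)⁻¹ ∈ zpowers (V we2)
  rw [conj_eq_of_comm (comm_of k_12)]
  exact mem_zpowers _

theorem isP_E : IsPGroup 3 E := by
  refine isP_sup (cube_of k_e3) isP_E12 (conj_le (sup_le ?_ ?_))
  · rw [zpowers_le]
    show V we3 * V we1 * (V we3)⁻¹ ∈ E12
    rw [conj_eq_of_comm (comm_of k_13).symm]
    exact c1
  · rw [zpowers_le]
    show V we3 * V we2 * (V we3)⁻¹ ∈ E12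
    rw [conj_eq_of_comm (comm_of k_23).symm]
    exact c2

theorem conj_of {l m n : List ℕ} (h : chk (l ++ m) (n ++ l) = true) : V l * V m * (V l)⁻¹ = V n := by
  have h1 := V_eq h
  rw [V_append, V_append] at h1
  rw [h1, mul_inv_cancel_right]

theorem isP_P : IsPGroup 3 P := by
  refine isP_sup (cube_of k_tau) isP_E (conj_le (sup_le ?_ (sup_le ?_ ?_)))
  · rw [zpowers_le]
    show V wtau * V we3 * (V wtau)⁻¹ ∈ E
    rw [conj_of k_t3]
    exact m1
  · rw [zpowers_le]
    show V wtau * V we1 * (V wtau)⁻¹ ∈ E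
    rw [conj_of k_t1]
    exact m2
  · rw [zpowers_le]
    show V wtau * V we2 * (V wtau)⁻¹ ∈ E
    rw [conj_of k_t2]
    exact m3

theorem P_le : P ≤ centralizer ({Z} : Set G3) := by
  refine sup_le ?_ (sup_le ?_ (sup_le ?_ ?_)) <;> rw [zpowers_le]
  · exact mem_C k_Zt
  · exact mem_C k_Z3
  · exact mem_C k_Z1
  · exact mem_C k_Z2

theorem pn_mem (n : ℕ) : V (pn n) ∈ P := by
  rw [pn, V_append, V_append, V_append, V_wpw, V_wpw, V_wpw, V_wpw]
  exact mul_mem (pow_mem p1 _) (mul_mem (pow_mem p2 _) (mul_mem (pow_mem p3 _) (pow_mem p4 _)))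

theorem pn_run {n : ℕ} (hn : n < 81) {i : ℕ} (hi : i < 552) :
    OkR cfg (run cfg (wm (pn n)) (row i)) ∧
      act (rv (row i)) ((V (pn n) : G3) : Co0) = rv (run cfg (wm (pn n)) (row i)) :=
  act_word (wok_all ⟨n, hn⟩) (row_ok hi)

theorem pn_inj : Function.Injective fun n : Fin 81 => V (pn n.1) := by
  intro m n h
  have h0 : V (pn m.1) = V (pn n.1) := h
  apply tbl_inj
  have h1 := pn_run m.2 (i := 7) (by norm_num)
  have h2 := pn_run n.2 (i := 7) (by norm_num)
  have h3 := Nat.eq_of_beq_eq_true (allBelow_spec tblOk_eq m.1 m.2)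
  have h4 := Nat.eq_of_beq_eq_true (allBelow_spec tblOk_eq n.1 n.2)
  rw [h0, h2.2] at h1
  have h5 := rv_inj h2.1 h1.1 h1.2
  rw [h3, h4] at h5
  rw [← h5]
  exact Nat.beq_refl _

theorem card_C : Nat.card (centralizer ({Z} : Set G3)) = 2903040 := KFacts.Co3.Syl.card_Z

theorem card_syl (Q : Sylow 3 (centralizer ({Z} : Set G3))) : Nat.card Q = 81 := by
  rw [Q.card_eq_multiplicity, card_C]
  have : (2903040 : ℕ) = 3 ^ 4 * 35840 := by norm_num
  rw [this, Nat.factorization_mul (by norm_num) (by norm_num), Finsupp.add_apply,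
    Nat.Prime.factorization_pow Nat.prime_three, Finsupp.single_eq_same,
    Nat.factorization_eq_zero_of_not_dvd (by norm_num)]
  rfl

/-- there is a Sylow 3-subgroup of `C(Z)` consisting of the 81 words -/
theorem exists_syl : ∃ Q : Sylow 3 (centralizer ({Z} : Set G3)),
    ∀ x ∈ Q, ∃ n : Fin 81, V (pn n.1) = (x : G3) := by
  have hP : IsPGroup 3 (P.subgroupOf (centralizer ({Z} : Set G3))) := by
    intro y
    obtain ⟨k, hk⟩ := isP_P ⟨((y : centralizer ({Z} : Set G3)) : G3), mem_subgroupOf.1 y.2⟩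
    refine ⟨k, ?_⟩
    apply Subtype.ext
    apply Subtype.ext
    have h1 := congrArg (fun z : P => (z : G3)) hk
    simpa using h1
  obtain ⟨Q, hQ⟩ := hP.exists_le_sylow
  refine ⟨Q, ?_⟩
  let f : Fin 81 → Q := fun n =>
    ⟨⟨V (pn n.1), P_le (pn_mem n.1)⟩, hQ (mem_subgroupOf.2 (pn_mem n.1))⟩
  have hf : Function.Injective f := fun m n h =>
    pn_inj (congrArg (fun z : Q => ((z : centralizer ({Z} : Set G3)) : G3)) h)
  have hb : Function.Bijective f := by
    rw [Nat.bijective_iff_injective_and_card]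
    refine ⟨hf, ?_⟩
    rw [Nat.card_eq_fintype_card, Fintype.card_fin]
    exact (card_syl Q).symm
  intro x hx
  obtain ⟨n, hn⟩ := hb.2 ⟨x, hx⟩
  exact ⟨n, congrArg (fun z : Q => ((z : centralizer ({Z} : Set G3)) : G3)) hn⟩

/-- **An element of order 9 of the Sylow subgroup fixes none of the 552 rows.** -/
theorem no_fix_pn {n : ℕ} (hn : n < 81) (h9 : orderOf (V (pn n)) = 9) {i : ℕ} (hi : i < 552)
    (hf : act (rv (row i)) ((V (pn n) : G3) : Co0) = rv (row i)) : False := by
  have h := allBelow_spec mov_eq n hn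
  have h3 : V (pn n) ^ 3 ≠ 1 := by
    intro h1
    have := orderOf_dvd_of_pow_eq_one h1
    rw [h9] at this
    omega
  cases hb : (Nat.beq (n % 3) 0 || Nat.beq ((n / 27 + n / 9 % 3 + n / 3 % 3) % 3) 0) with
  | true =>
    rw [hb, cond_true] at h
    apply h3
    have h1 := V_eq h
    rw [V_append, V_append, V_nil] at h1
    rw [pow_succ, pow_two, mul_assoc]
    exact h1
  | false =>
    rw [hb, cond_false, Bool.and_eq_true, Bool.or_eq_true] at h
    obtain ⟨h1, h2⟩ := h
    -- the row is fixed by the cube, so by `wc`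
    have hfp : ∀ k : ℕ, act (rv (row i)) ((V (pn n) ^ k : G3) : Co0) = rv (row i) := by
      intro k
      induction k with
      | zero => rw [pow_zero, Subgroup.coe_one, act_one]
      | succ k ih => rw [pow_succ, Subgroup.coe_mul, act_mul, ih, hf]
    have hc : act (rv (row i)) ((V wc : G3) : Co0) = rv (row i) := by
      rcases h1 with h1 | h1
      · have h4 := V_eq h1
        rw [V_append, V_append] at h4
        rw [← h4, ← mul_assoc]
        have := hfp 3
        rwa [pow_succ, pow_two] at this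
      · have h4 := V_eq h1
        rw [V_append, V_append, V_append, V_nil] at h4
        have h5 : V (pn n) ^ 3 * V wc = 1 := by
          rw [pow_succ, pow_two]
          simpa only [mul_assoc] using h4
        have h6 : act (act (rv (row i)) ((V (pn n) ^ 3 : G3) : Co0)) ((V wc : G3) : Co0) = rv (row i) := by
          rw [← act_mul, ← Subgroup.coe_mul, h5, Subgroup.coe_one, act_one]
        rwa [hfp 3] at h6
    obtain ⟨h4, h5⟩ := act_word wok_c (row_ok hi)
    have h6 : run cfg (wm wc) (row i) = row i := rv_inj h4 (row_ok hi) (h5.symm.trans hc)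
    have h7 := allBelow_spec fixC_eq i hi
    rw [h6, Nat.beq_refl, cond_true, List.elem_eq_mem, decide_eq_true_eq] at h7
    have h8 := List.all_eq_true.1 h2 i h7
    obtain ⟨h10, h11⟩ := pn_run hn hi
    rw [rv_inj h10 (row_ok hi) (h11.symm.trans hf), Nat.beq_refl] at h8
    exact absurd h8 (by decide)

/-- **An element of order 9 commuting with a conjugate of `Z` fixes none of the 552 rows.** -/
theorem no_fix_C {x : G3} (hx : x ∈ centralizer ({Z} : Set G3)) (h9 : orderOf x = 9) {v : Fin 24 → ZMod 3}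
    (hv : InO v) (hf : act v (x : Co0) = v) : False := by
  obtain ⟨Q, hQ⟩ := exists_syl
  have hp : IsPGroup 3 (zpowers (⟨x, hx⟩ : centralizer ({Z} : Set G3))) := by
    intro y
    refine ⟨2, ?_⟩
    obtain ⟨k, hk⟩ := mem_zpowers_iff.1 y.2
    apply Subtype.ext
    show (y : centralizer ({Z} : Set G3)) ^ (3 ^ 2) = 1
    have h1 : (⟨x, hx⟩ : centralizer ({Z} : Set G3)) ^ (9 : ℕ) = 1 := by
      apply Subtype.ext
      show x ^ 9 = 1
      rw [← h9]
      exact pow_orderOf_eq_one x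
    rw [← hk, ← zpow_natCast, ← zpow_mul, mul_comm, zpow_mul, zpow_natCast, show (3 : ℕ) ^ 2 = 9 from rfl, h1, one_zpow]
  obtain ⟨R, hR⟩ := hp.exists_le_sylow
  obtain ⟨c, hc⟩ := MulAction.exists_smul_eq (centralizer ({Z} : Set G3)) R Q
  have hg : c * ⟨x, hx⟩ * c⁻¹ ∈ Q := by
    have h4 : (⟨x, hx⟩ : centralizer ({Z} : Set G3)) ∈ (R : Subgroup _) := hR (mem_zpowers _)
    rw [← hc]
    exact smul_mem_pointwise_smul _ (MulAut.conj c) _ h4
  obtain ⟨n, hn⟩ := hQ _ hg
  have hn' : V (pn n.1) = (c : G3) * x * (c : G3)⁻¹ := hn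
  obtain ⟨i, hi, hi'⟩ := InO.act ((c : G3)⁻¹) hv
  refine no_fix_pn n.2 ?_ hi ?_
  · rw [hn', ← MulAut.conj_apply, MulEquiv.orderOf_eq, h9]
  · rw [← hi', hn']
    rw [← act_mul, ← Subgroup.coe_mul]
    have : (c : G3)⁻¹ * ((c : G3) * x * (c : G3)⁻¹) = x * (c : G3)⁻¹ := by group
    rw [this, Subgroup.coe_mul, act_mul, hf]

/-! ### no element of order 9 in `M₁₂` -/

theorem m12_cube : ∀ n : Fin 27, CoThreeStd.MTwelve.eqW (CpAutCo3.MTw.el n.1 ++ (CpAutCo3.MTw.el n.1 ++ CpAutCo3.MTw.el n.1)) [] = true := by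
  decide +kernel

theorem m12_no_nine {x : Spor.M12} (h9 : orderOf x = 9) : False := by
  have := CpAutCo3.MTw.finM
  obtain ⟨Q, hQ⟩ := CpAutCo3.MTw.exists_syl
  have hp : IsPGroup 3 (zpowers x) := by
    intro y
    refine ⟨2, ?_⟩
    obtain ⟨k, hk⟩ := mem_zpowers_iff.1 y.2
    apply Subtype.ext
    show (y : Spor.M12) ^ (3 ^ 2) = 1
    have h1 : x ^ (9 : ℕ) = 1 := by
      rw [← h9]
      exact pow_orderOf_eq_one x
    rw [← hk, ← zpow_natCast, ← zpow_mul, mul_comm, zpow_mul, zpow_natCast, show (3 : ℕ) ^ 2 = 9 from rfl, h1, one_zpow]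
  obtain ⟨R, hR⟩ := hp.exists_le_sylow
  obtain ⟨c, hc⟩ := MulAction.exists_smul_eq Spor.M12 R Q
  have hg : c * x * c⁻¹ ∈ Q := by
    have h4 : x ∈ (R : Subgroup Spor.M12) := hR (mem_zpowers x)
    rw [← hc]
    exact smul_mem_pointwise_smul x (MulAut.conj c) _ h4
  obtain ⟨n, hn⟩ := hQ _ hg
  have h1 := CoThreeStd.MTwelve.wd_eq (m12_cube n)
  rw [CoThreeStd.MTwelve.wd_append, CoThreeStd.MTwelve.wd_append, hn, CoThreeStd.MTwelve.wd_nil] at h1
  have h2 : (c * x * c⁻¹) ^ 3 = 1 := by rw [pow_succ, pow_two, mul_assoc]; exact h1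
  have h3 := orderOf_dvd_of_pow_eq_one h2
  rw [← MulAut.conj_apply, MulEquiv.orderOf_eq, h9] at h3
  omega

/-- `2 × M₁₂` has no element of order 9. -/
theorem no_nine_C [Finite CoThreeB.K] {k : centralizer ({CoThreeB.wK} : Set CoThreeB.K)} (h9 : orderOf k = 9) :
    False := by
  have hk9 : k ^ 9 = 1 := by rw [← h9]; exact pow_orderOf_eq_one k
  have hd : orderOf (CoThreeB.proj k) ∣ 9 := by rw [← h9]; exact orderOf_map_dvd _ _
  have hle : orderOf (CoThreeB.proj k) ≠ 9 := fun h => m12_no_nine h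
  have h3 : orderOf (CoThreeB.proj k) ∣ 3 := by
    have h4 : orderOf (CoThreeB.proj k) ≤ 9 := Nat.le_of_dvd (by norm_num) hd
    interval_cases hh : orderOf (CoThreeB.proj k) <;> first | omega | norm_num at hd ⊢
  have h1 : CoThreeB.proj (k ^ 3) = 1 := by
    rw [map_pow]
    exact orderOf_dvd_iff_pow_eq_one.1 h3
  rcases CoThreeB.ker_proj h1 with h2 | h2
  · have h4 := orderOf_dvd_of_pow_eq_one h2
    rw [h9] at h4
    omega
  · have h4 : ((k ^ 9 : centralizer ({CoThreeB.wK} : Set CoThreeB.K)) : CoThreeB.K) = CoThreeB.wK := by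
      have h5 : k ^ 9 = k ^ 3 * (k ^ 3 * k ^ 3) := by rw [← pow_add, ← pow_add]
      rw [h5, Subgroup.coe_mul, Subgroup.coe_mul, h2, CoThreeB.wK_sq, mul_one]
    rw [hk9, Subgroup.coe_one] at h4
    exact CoThreeB.wK_ne h4.symm

/-- The property for the model of `Co3`. -/
theorem ro_model : H101.RO.RealOdd G3 := by
  set s : G3 := V ws with hs
  set t : G3 := V wt with ht
  have hss : s * s = 1 := by rw [hs, ← V_append, V_eq k_ss, V_nil]
  have htt : t * t = 1 := by rw [ht, ← V_append, V_eq k_tt, V_nil]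
  have hx9 : (s * t) ^ 9 = 1 := by
    rw [hs, ht, ← V_append, ← V_wpw, V_eq k_nine, V_nil]
  obtain ⟨hf1, hf2⟩ := act_word wok_x (row_ok (i := 21) (by norm_num))
  have hf : act (rv (row 21)) ((s * t : G3) : Co0) = rv (row 21) := by
    rw [hs, ht, ← V_append, hf2, Nat.eq_of_beq_eq_true fix_x]
  have hx3 : (s * t) ^ 3 ≠ 1 := by
    intro h
    obtain ⟨h1, h2⟩ := act_word wok_x3 (row_ok (i := 1) (by norm_num))
    rw [V_wpw, V_append, ← hs, ← ht, h, Subgroup.coe_one, act_one] at h2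
    have h3 := rv_inj h1 (row_ok (i := 1) (by norm_num)) h2.symm
    have h4 := ne_x3
    rw [h3, Nat.beq_refl] at h4
    exact absurd h4 (by decide)
  have h9 : orderOf (s * t) = 3 ^ 2 := by
    have : Fact (Nat.Prime 3) := ⟨Nat.prime_three⟩
    refine orderOf_eq_prime_pow ?_ hx9
    exact hx3
  have hs' : s⁻¹ = s := inv_eq_of_mul_eq_one_left hss
  have ht' : t⁻¹ = t := inv_eq_of_mul_eq_one_left htt
  have hinv : s * (s * t) * s⁻¹ = (s * t)⁻¹ := by
    rw [mul_inv_rev, hs', ht', ← mul_assoc, hss, one_mul]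
  refine H101.RO.RealOdd.of_elts Nat.prime_three (by norm_num) (by norm_num) h9 hinv ?_
  intro a ha hc
  have h2 : a * a = 1 := by rw [← pow_two, ← ha]; exact pow_orderOf_eq_one a
  have h1 : a ≠ 1 := by rintro rfl; rw [orderOf_one] at ha; norm_num at ha
  obtain ⟨e⟩ := SigZero.CoThree.exists_equiv
  have hfK : Finite CoThreeB.K := Finite.of_equiv _ e.symm.toEquiv
  rcases SigZero.CoThree.classes (w := e CoThreeB.wK) (by rw [← map_mul, CoThreeB.wK_sq, map_one])
      (fun h => CoThreeB.wK_ne ((map_eq_one_iff e e.injective).1 h))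
      (by
        rw [H729.PairCo3N.card_centralizer_map]
        exact SigZero.CoThree.card_C_le) h2 h1 with ⟨g, hg⟩ | ⟨g, hg⟩
  · -- type `Z`
    refine no_fix_C (x := g⁻¹ * (s * t) * g) (v := act (rv (row 21)) (g : Co0)) ?_ ?_ ?_ ?_
    · rw [mem_centralizer_singleton_iff]
      have h3 : Z = g⁻¹ * a * g := by rw [← hg]; group
      rw [h3]
      calc g⁻¹ * (s * t) * g * (g⁻¹ * a * g) = g⁻¹ * ((s * t) * a) * g := by group
        _ = g⁻¹ * (a * (s * t)) * g := by rw [hc]
        _ = g⁻¹ * a * g * (g⁻¹ * (s * t) * g) := by group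
    · have h3 : g⁻¹ * (s * t) * g = MulAut.conj g⁻¹ (s * t) := by rw [MulAut.conj_apply, inv_inv]
      rw [h3, MulEquiv.orderOf_eq, h9]
      rfl
    · exact InO.act g ⟨21, by norm_num, rfl⟩
    · rw [← act_mul, ← Subgroup.coe_mul]
      have h3 : g * (g⁻¹ * (s * t) * g) = (s * t) * g := by group
      rw [h3, Subgroup.coe_mul, act_mul, hf]
  · -- type `2 × M12`
    have h3 : CoThreeB.wK * e.symm (g⁻¹ * (s * t) * g) = e.symm (g⁻¹ * (s * t) * g) * CoThreeB.wK := by
      apply e.injective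
      rw [map_mul e, map_mul e _ CoThreeB.wK, e.apply_symm_apply]
      have h4 : e CoThreeB.wK = g⁻¹ * a * g := by rw [← hg]; group
      rw [h4]
      calc g⁻¹ * a * g * (g⁻¹ * (s * t) * g) = g⁻¹ * (a * (s * t)) * g := by group
        _ = g⁻¹ * ((s * t) * a) * g := by rw [hc]
        _ = g⁻¹ * (s * t) * g * (g⁻¹ * a * g) := by group
    refine no_nine_C (k := ⟨e.symm (g⁻¹ * (s * t) * g), mem_centralizer_singleton_iff.2 h3.symm⟩) ?_
    rw [Subgroup.orderOf_mk, MulEquiv.orderOf_eq]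
    have h5 : g⁻¹ * (s * t) * g = MulAut.conj g⁻¹ (s * t) := by rw [MulAut.conj_apply, inv_inv]
    rw [h5, MulEquiv.orderOf_eq, h9]
    rfl

/-- **`Co3`.** -/
theorem ro_Co3 {G : Type u} [Group G] [Finite G] (h : Cfsg.Spor.IsoCo3 G) : Cfsg.Agent.H101.RO.RealOdd G := by
  obtain ⟨e⟩ := h
  exact H101.RO.RealOdd.congr (SporRec.Co3.Model.equivCo3.trans e.symm) ro_model

end Cfsg.Agent.H317.RO.Co3
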